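import Cfsg.Agent.Lib.ToddCox.Glue
set_option autoImplicit false
set_option maxRecDepth 100000
namespace Cfsg.Agent.Lib.ToddCox.A7T
def E_0 : ℕ := 0x61000001400001440000060000060c00001400001430000060000060800001400001420000060000060400001400001410000060000060000001400001450000060000041000001000001040000040000040c00001000001030000040000040800001000001020000040000031000000c00000c40000030000030c00000c00000c30000030000031400000c00000c00000030000021000000800000840000020000020400000800000810000020000021400000800000800000020000010800000400000420000010000010400000400000410000010000011400000400000400000010000000c00000000000030000000000000800000000000020000000000000400000000000010000000000001400000000000000000000000040000001800001850000040000041400001400001400000040000030400001000001010000030000020800000c00000c20000020000010c0000080000083000001000000100000040000044000000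
end Cfsg.Agent.Lib.ToddCox.A7T
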