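import Cfsg.Agent.Lib.ToddCox.A7T.Data
set_option autoImplicit false
set_option maxRecDepth 100000
namespace Cfsg.Agent.Lib.ToddCox.A7T
theorem wordsGood : allBelow (wordsOK W (relR Rb inv) inv sp) nW 5 = true := by decide +kernel
theorem d0 : allBits (fun k => bif Nat.blt k 6 then chkDef Eo inv k else true) 13 0 = true := by decide +kernel
theorem s0 : chkStream Eo inv W isH 21 6 0x280000540000090000080000028000050000009000007800002800004c000009000007000002800000c000021000003800002400001a00000a000004800003000000c000024000003800002c00000c000022000003800002800000c00000400000e000001400000e000009000002000007800000a0000080000020000008000030000003000002800001c00000800001a00000280000180000040000000000098000004000006000005000001000005800000600000400000100000500000060000030000000000044000002000002000000000003c0000020000010000000000030000002000000fffffffffffffffffffffffff = true := by decide +kernel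
theorem c0 : Covered Eo inv W isH 6 27 := covered_of_stream 21 6 _ s0
theorem l0 : chkPoints Eo cF (2 * nEv) N ys 7 0 0x16000001400006800000500001900000140000600000050000170000014000016000004000004800001000006a0000060000198000018000062000006000017800001800005a0000060000050000018000056000004000014800001000004e000004000003800000c000010000005000010800000c00004a000003000011800000c00000a000002000003000001000004000000300000d800000800003e000002000001800000400000800000300000e800000800003400000200000a8000004000002000000000001000000800003200000100000b8000004000028000001000006800000000000000000100000900000000000200000000000070000000000018000000 = true := by decide +kernel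
theorem k0 : LinksOK Eo cF (2 * nEv) N ys 0 7 := linksOK_of_points 7 0 _ l0
end Cfsg.Agent.Lib.ToddCox.A7T
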